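import Cfsg.Agent.H133.AddWeights

/-!
# Cross characteristic lower bound for `SL_{m+1}(q)`, `m ≥ 2`

`main`: if `ρ : SL_{m+1}(F) →* End V` over a field `L` in which `|F| ≠ 0` and having a primitive additive character of `F`,
is nontrivial on the elements `1 + e_0 (0, x)`, then `dim V ≥ q ^ m - 1`.
-/

set_option autoImplicit false

namespace Cfsg.Agent.H133.SLCross

open Matrix Module
open Cfsg.Agent.H133.AddWeights

variable {F : Type*} [Field F] {m : ℕ}

/-- The matrix `1 + e_0 (0, x)`. -/
def uMat (x : Fin m → F) : Matrix (Fin (m + 1)) (Fin (m + 1)) F :=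
  1 + vecMulVec (Pi.single 0 1) (Fin.cons 0 x)

theorem cons_dot (x : Fin m → F) : (Fin.cons 0 x : Fin (m + 1) → F) ⬝ᵥ Pi.single 0 1 = 0 := by
  rw [dotProduct_single, Fin.cons_zero, zero_mul]

theorem uMat_add (x y : Fin m → F) : uMat (x + y) = uMat x * uMat y := by
  unfold uMat
  rw [mul_add, mul_one, add_mul, one_mul, vecMulVec_mul_vecMulVec, cons_dot, zero_smul, vecMulVec_zero, add_zero,
    add_assoc, ← vecMulVec_add]
  congr 2
  funext i
  refine Fin.cases ?_ (fun i => ?_) i
  · simp
  · simp

theorem uMat_zero : uMat (0 : Fin m → F) = 1 := by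
  unfold uMat
  have : (Fin.cons 0 0 : Fin (m + 1) → F) = 0 := by
    funext i
    refine Fin.cases ?_ (fun i => ?_) i <;> simp
  rw [this, vecMulVec_zero, add_zero]

theorem det_uMat (x : Fin m → F) : (uMat x).det = 1 := by
  unfold uMat
  rw [vecMulVec_eq Unit, det_one_add_replicateCol_mul_replicateRow, cons_dot, add_zero]

/-- The element of `SL`. -/
def u (x : Fin m → F) : SpecialLinearGroup (Fin (m + 1)) F := ⟨uMat x, det_uMat x⟩

theorem coe_u (x : Fin m → F) : (u x : Matrix (Fin (m + 1)) (Fin (m + 1)) F) = uMat x := rfl

theorem u_add (x y : Fin m → F) : u (x + y) = u x * u y := Subtype.ext (uMat_add x y)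

theorem u_zero : u (0 : Fin m → F) = 1 := Subtype.ext uMat_zero

theorem u_not_mem_center (i : Fin m) : u (Pi.single i (1 : F)) ∉ Subgroup.center (SpecialLinearGroup (Fin (m + 1)) F) := by
  intro h
  obtain ⟨r, _, hr⟩ := Matrix.SpecialLinearGroup.mem_center_iff.1 h
  have h1 := congrFun (congrFun hr 0) i.succ
  rw [coe_u] at h1
  unfold uMat at h1
  rw [scalar_apply, diagonal_apply_ne _ (Fin.succ_ne_zero i).symm, Matrix.add_apply,
    one_apply_ne (Fin.succ_ne_zero i).symm, vecMulVec_apply] at h1
  simp at h1

/-- Conjugation by a transvection. -/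
theorem transvection_mul_u {i j : Fin m} (hij : i ≠ j) (c : F) (x : Fin m → F) :
    SpecialLinearGroup.transvection ((Fin.succ_injective m).ne hij) c * u x =
      u (Function.update x j (x j - c * x i)) * SpecialLinearGroup.transvection ((Fin.succ_injective m).ne hij) c := by
  apply Subtype.ext
  show (1 + single i.succ j.succ c) * uMat x = uMat _ * (1 + single i.succ j.succ c)
  unfold uMat
  rw [mul_add, mul_one, add_mul (1 : Matrix (Fin (m + 1)) (Fin (m + 1)) F) (vecMulVec _ _), one_mul, mul_vecMulVec,
    vecMulVec_mul]
  congr 2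
  · funext k
    rw [add_mulVec, one_mulVec, Pi.add_apply, single_mulVec]
    rw [Function.update_apply]
    simp
  · rw [vecMul_add, vecMul_one]
    funext k
    refine Fin.cases ?_ (fun k => ?_) k
    · rw [Pi.add_apply, Fin.cons_zero, Fin.cons_zero]
      simp only [vecMul, dotProduct, single_apply]
      rw [Finset.sum_eq_zero, add_zero]
      intro b _
      rw [if_neg (fun h => Fin.succ_ne_zero j h.2), mul_zero]
    · rw [Pi.add_apply, Fin.cons_succ, Fin.cons_succ]
      have : (Fin.cons 0 (Function.update x j (x j - c * x i)) ᵥ* single i.succ j.succ c : Fin (m + 1) → F) k.succ =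
          if k = j then x i * c else 0 := by
        simp only [vecMul, dotProduct, single_apply]
        rw [Finset.sum_eq_single i.succ]
        · rw [Fin.cons_succ, Function.update_of_ne hij]
          by_cases h : k = j
          · subst h; simp
          · have h' : ¬ j.succ = k.succ := fun e => h (Fin.succ_injective _ e).symm
            simp [h, h']
        · intro b _ hb
          rw [if_neg (fun h => hb h.1.symm), mul_zero]
        · intro h
          exact absurd (Finset.mem_univ _) h
      rw [this]
      by_cases h : k = j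
      · subst h
        rw [Function.update_self, if_pos rfl]; ring
      · rw [Function.update_of_ne h, if_neg h, add_zero]

variable [Fintype F] [DecidableEq F] {L : Type*} [Field L] {V : Type*} [AddCommGroup V] [Module L V]

omit [DecidableEq F] in
theorem e_step (ρ : SpecialLinearGroup (Fin (m + 1)) F →* Module.End L V) (ψ : AddChar F L) {i j : Fin m} (hij : i ≠ j)
    (c : F) (v : Fin m → F) :
    ρ (SpecialLinearGroup.transvection ((Fin.succ_injective m).ne hij) c) * e (fun x => ρ (u x)) ψ v =
      e (fun x => ρ (u x)) ψ (Function.update v i (v i + c * v j)) *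
        ρ (SpecialLinearGroup.transvection ((Fin.succ_injective m).ne hij) c) := by
  unfold e
  rw [Finset.mul_sum, Finset.sum_mul]
  let E : (Fin m → F) ≃ (Fin m → F) :=
    { toFun := fun x => Function.update x j (x j - c * x i)
      invFun := fun x => Function.update x j (x j + c * x i)
      left_inv := fun x => by
        funext k
        by_cases h : k = j
        · subst h; simp [Function.update_of_ne hij]
        · simp [Function.update_of_ne h]
      right_inv := fun x => by
        funext k
        by_cases h : k = j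
        · subst h; simp [Function.update_of_ne hij]
        · simp [Function.update_of_ne h] }
  refine Fintype.sum_equiv E _ _ fun x => ?_
  rw [mul_smul_comm, smul_mul_assoc, ← map_mul, ← map_mul, transvection_mul_u hij]
  congr 1
  show chi ψ v (-x) = chi ψ _ (-(Function.update x j (x j - c * x i)))
  unfold chi
  congr 1
  rw [dotProduct_neg, dotProduct_neg]
  congr 1
  have h1 : ∀ (w : Fin m → F) (k : Fin m) (a : F), Function.update w k a = w + Pi.single k (a - w k) := by
    intro w k a
    funext l
    by_cases h : l = k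
    · subst h; simp
    · simp [Function.update_of_ne h, Pi.single_eq_of_ne h]
  rw [h1 v, h1 x, add_dotProduct, dotProduct_add, dotProduct_single, single_dotProduct, Pi.add_apply,
    Pi.single_eq_of_ne hij, add_zero]
  ring

theorem main [FiniteDimensional L V] (hm : 2 ≤ m) (ρ : SpecialLinearGroup (Fin (m + 1)) F →* Module.End L V)
    {ψ : AddChar F L} (hψ : ψ.IsPrimitive) (hq : (Fintype.card F : L) ≠ 0)
    (hnt : ∃ x, ρ (u x) ≠ 1) : Fintype.card F ^ m - 1 ≤ finrank L V := by
  have hU : ∀ x y : Fin m → F, ρ (u (x + y)) = ρ (u x) * ρ (u y) := fun x y => by rw [u_add, map_mul]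
  have hU0 : ρ (u (0 : Fin m → F)) = 1 := by rw [u_zero, map_one]
  have hqm : (Fintype.card (Fin m → F) : L) ≠ 0 := by
    rw [Fintype.card_fun, Fintype.card_fin, Nat.cast_pow]
    exact pow_ne_zero _ hq
  have hstep : ∀ (i j : Fin m), i ≠ j → ∀ (c : F) (v : Fin m → F),
      (e (fun x => ρ (u x)) ψ (Function.update v i (v i + c * v j)) = 0) = (e (fun x => ρ (u x)) ψ v = 0) := by
    intro i j hij c v
    have h1 := e_step ρ ψ hij c v
    have h2 : ρ (SpecialLinearGroup.transvection ((Fin.succ_injective m).ne hij) c) *
        ρ (SpecialLinearGroup.transvection ((Fin.succ_injective m).ne hij) c)⁻¹ = 1 := by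
      rw [← map_mul, mul_inv_cancel, map_one]
    have h3 : ρ (SpecialLinearGroup.transvection ((Fin.succ_injective m).ne hij) c)⁻¹ *
        ρ (SpecialLinearGroup.transvection ((Fin.succ_injective m).ne hij) c) = 1 := by
      rw [← map_mul, inv_mul_cancel, map_one]
    apply propext
    constructor
    · intro h
      rw [h, zero_mul] at h1
      rw [← one_mul (e _ ψ v), ← h3, mul_assoc, h1, mul_zero]
    · intro h
      rw [h, mul_zero] at h1
      rw [← mul_one (e _ ψ (Function.update v i (v i + c * v j))), ← h2, ← mul_assoc, ← h1, zero_mul]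
  have h01 : (⟨0, by omega⟩ : Fin m) ≠ ⟨1, by omega⟩ := by
    intro h
    exact absurd (congrArg Fin.val h) (by simp)
  have hall : ∀ v : Fin m → F, v ≠ 0 → e (fun x => ρ (u x)) ψ v ≠ 0 := by
    by_contra hcon
    push Not at hcon
    obtain ⟨v, hv, hv0⟩ := hcon
    obtain ⟨x, hx⟩ := hnt
    apply hx
    refine eq_one_of_forall (U := fun x => ρ (u x)) hU hU0 hψ hqm (fun w hw => ?_) x
    have h1 := invariant_of_steps (fun v => e (fun x => ρ (u x)) ψ v = 0) hstep h01 hv
    have h2 := invariant_of_steps (fun v => e (fun x => ρ (u x)) ψ v = 0) hstep h01 hw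
    have h3 := h1.trans h2.symm
    exact h3.mp hv0
  have := card_le_finrank hU hψ hqm (Finset.univ.erase 0) fun v hv => hall v (Finset.ne_of_mem_erase hv)
  rwa [Finset.card_erase_of_mem (Finset.mem_univ _), Finset.card_univ, Fintype.card_fun, Fintype.card_fin] at this

end Cfsg.Agent.H133.SLCross
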