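import Mathlib

/-!
# Weights of an elementary abelian group `F ^ m` in a representation, cross characteristic

`F` a finite field, `ψ : AddChar F L` primitive, `U : Multiplicative (Fin m → F) → End V` a homomorphism.
`e U ψ v = ∑_x ψ(-v·x) U(x)`.

* `invariant_of_steps`: a function on `F ^ m`, `m ≥ 2`, invariant under elementary row operations is constant on nonzero
  vectors.
* `card_le_finrank`: if all `e v`, `v` in a finite set `S`, are nonzero, then `|S| ≤ dim V`.
* `eq_one_of_forall`: if `e v = 0` for all `v ≠ 0` then `U` is trivial.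
-/

set_option autoImplicit false

namespace Cfsg.Agent.H133.AddWeights

open Module

section steps

variable {F : Type*} [Field F] {ι : Type*} [Fintype ι] [DecidableEq ι] {α : Type*}

theorem invariant_of_steps (f : (ι → F) → α)
    (h : ∀ (i j : ι), i ≠ j → ∀ (c : F) (v : ι → F), f (Function.update v i (v i + c * v j)) = f v)
    {a b : ι} (hab : a ≠ b) {v : ι → F} (hv : v ≠ 0) : f v = f (Pi.single a 1) := by
  -- clearing
  have hclear : ∀ v : ι → F, v a = 1 → ∀ T : Finset ι, a ∉ T → f (fun i => if i ∈ T then 0 else v i) = f v := by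
    intro v hva T
    induction T using Finset.induction_on with
    | empty => intro _; simp
    | insert k T hk ih =>
      intro haT
      rw [Finset.mem_insert, not_or] at haT
      rw [← ih haT.2, ← h k a (Ne.symm haT.1) (-v k) (fun i => if i ∈ T then 0 else v i)]
      congr 1
      funext i
      by_cases hik : i = k
      · subst hik
        simp [hk, haT.2, hva]
      · rw [Function.update_of_ne hik]
        simp [hik]
  have h1 : ∀ v : ι → F, v a = 1 → f v = f (Pi.single a 1) := by
    intro v hva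
    rw [← hclear v hva (Finset.univ.erase a) (by simp)]
    congr 1
    funext i
    by_cases hi : i = a
    · subst hi; simp [hva]
    · simp [hi]
  have h2 : ∀ v : ι → F, (∃ j, j ≠ a ∧ v j ≠ 0) → f v = f (Pi.single a 1) := by
    rintro v ⟨j, hja, hj⟩
    rw [← h a j (Ne.symm hja) ((1 - v a) / v j) v]
    apply h1
    rw [Function.update_self, div_mul_cancel₀ _ hj]
    ring
  by_cases hex : ∃ j, j ≠ a ∧ v j ≠ 0
  · exact h2 v hex
  · push Not at hex
    have hva : v a ≠ 0 := by
      intro h0
      apply hv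
      funext i
      by_cases hi : i = a
      · rw [hi, h0]; rfl
      · exact hex i hi
    rw [← h b a (Ne.symm hab) 1 v]
    apply h2
    refine ⟨b, Ne.symm hab, ?_⟩
    rw [Function.update_self, hex b (Ne.symm hab), zero_add, one_mul]
    exact hva

end steps

section weights

variable {F : Type*} [Field F] [Fintype F] [DecidableEq F] {L : Type*} [Field L] {ι : Type*} [Fintype ι] [DecidableEq ι]
  {V : Type*} [AddCommGroup V] [Module L V]

/-- The character `x ↦ ψ(v · x)`. -/
def chi (ψ : AddChar F L) (v x : ι → F) : L := ψ (v ⬝ᵥ x)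

omit [Fintype F] [DecidableEq F] [DecidableEq ι] in
theorem chi_add (ψ : AddChar F L) (v x y : ι → F) : chi ψ v (x + y) = chi ψ v x * chi ψ v y := by
  unfold chi
  rw [dotProduct_add, AddChar.map_add_eq_mul]

omit [Fintype F] [DecidableEq F] [DecidableEq ι] in
theorem chi_comm (ψ : AddChar F L) (v x : ι → F) : chi ψ v x = chi ψ x v := by
  unfold chi
  rw [dotProduct_comm]

omit [Fintype F] [DecidableEq F] [DecidableEq ι] in
theorem chi_zero (ψ : AddChar F L) (v : ι → F) : chi ψ v 0 = 1 := by
  unfold chi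
  rw [dotProduct_zero, AddChar.map_zero_eq_one]

omit [Fintype F] [DecidableEq F] [DecidableEq ι] in
theorem chi_neg_mul (ψ : AddChar F L) (v x : ι → F) : chi ψ v (-x) * chi ψ v x = 1 := by
  rw [← chi_add, neg_add_cancel, chi_zero]

/-- Orthogonality. -/
theorem sum_chi {ψ : AddChar F L} (hψ : ψ.IsPrimitive) (v : ι → F) :
    ∑ x : ι → F, chi ψ v x = if v = 0 then (Fintype.card (ι → F) : L) else 0 := by
  split_ifs with h
  · subst h
    have : ∀ x : ι → F, chi ψ 0 x = 1 := fun x => by rw [chi_comm, chi_zero]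
    simp only [this, Finset.sum_const, Finset.card_univ, nsmul_eq_mul, mul_one]
  · obtain ⟨i, hi⟩ : ∃ i, v i ≠ 0 := by
      by_contra hcon
      push Not at hcon
      exact h (funext hcon)
    have h1 := hψ hi
    rw [AddChar.ne_one_iff] at h1
    obtain ⟨c, hc⟩ := h1
    rw [AddChar.mulShift_apply] at hc
    have h2 : chi ψ v (Pi.single i c) ≠ 1 := by
      unfold chi
      rwa [dotProduct_single]
    have h3 : chi ψ v (Pi.single i c) * ∑ x : ι → F, chi ψ v x = ∑ x : ι → F, chi ψ v x := by
      rw [Finset.mul_sum]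
      refine Fintype.sum_equiv (Equiv.addLeft (Pi.single i c)) _ _ fun x => ?_
      rw [← chi_add]
      rfl
    have h4 : (chi ψ v (Pi.single i c) - 1) * ∑ x : ι → F, chi ψ v x = 0 := by
      rw [sub_mul, one_mul, h3, sub_self]
    rcases mul_eq_zero.1 h4 with h5 | h5
    · exact absurd (sub_eq_zero.1 h5) h2
    · exact h5

/-- The (unnormalised) projection onto the weight space of `v`. -/
def e (U : (ι → F) → Module.End L V) (ψ : AddChar F L) (v : ι → F) : Module.End L V :=
  ∑ x : ι → F, chi ψ v (-x) • U x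

omit [DecidableEq F] in
theorem U_mul_e (U : (ι → F) → Module.End L V) (hU : ∀ x y, U (x + y) = U x * U y) (ψ : AddChar F L) (v x : ι → F) :
    U x * e U ψ v = chi ψ v x • e U ψ v := by
  unfold e
  rw [Finset.mul_sum, Finset.smul_sum]
  refine Fintype.sum_equiv (Equiv.addLeft x) _ _ fun y => ?_
  rw [mul_smul_comm, ← hU, smul_smul]
  show _ = (chi ψ v x * chi ψ v (-(x + y))) • U (x + y)
  rw [← chi_add]
  congr 2
  abel

/-- On a vector of weight `v`. -/
theorem e_apply {U : (ι → F) → Module.End L V} {ψ : AddChar F L} (hψ : ψ.IsPrimitive) {v : ι → F} {b : V}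
    (hb : ∀ x, U x b = chi ψ v x • b) (w : ι → F) :
    e U ψ w b = if w = v then (Fintype.card (ι → F) : L) • b else 0 := by
  unfold e
  rw [LinearMap.sum_apply]
  have h1 : ∀ x : ι → F, (chi ψ w (-x) • U x) b = chi ψ (w - v) (-x) • b := by
    intro x
    rw [LinearMap.smul_apply, hb, smul_smul]
    congr 1
    unfold chi
    rw [← AddChar.map_add_eq_mul]
    congr 1
    rw [sub_dotProduct, dotProduct_neg, dotProduct_neg]
    ring
  rw [Finset.sum_congr rfl fun x _ => h1 x, ← Finset.sum_smul]
  have h2 : ∑ x : ι → F, chi ψ (w - v) (-x) = ∑ x : ι → F, chi ψ (w - v) x :=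
    Fintype.sum_equiv (Equiv.neg _) _ _ fun x => rfl
  rw [h2, sum_chi hψ]
  by_cases h : w = v
  · rw [if_pos h, if_pos (sub_eq_zero.2 h)]
  · rw [if_neg h, if_neg (sub_ne_zero.2 h), zero_smul]

theorem card_le_finrank [FiniteDimensional L V] {U : (ι → F) → Module.End L V} (hU : ∀ x y, U (x + y) = U x * U y)
    {ψ : AddChar F L} (hψ : ψ.IsPrimitive) (hq : (Fintype.card (ι → F) : L) ≠ 0) (S : Finset (ι → F))
    (hS : ∀ v ∈ S, e U ψ v ≠ 0) : S.card ≤ finrank L V := by
  have h1 : ∀ v : S, ∃ b : V, b ≠ 0 ∧ ∀ x, U x b = chi ψ v.1 x • b := by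
    intro v
    obtain ⟨a, ha⟩ : ∃ a, e U ψ v.1 a ≠ 0 := by
      by_contra hcon
      push Not at hcon
      exact hS v.1 v.2 (LinearMap.ext hcon)
    refine ⟨e U ψ v.1 a, ha, fun x => ?_⟩
    rw [← Module.End.mul_apply, U_mul_e U hU, LinearMap.smul_apply]
  choose b hb0 hb using h1
  have hlin : LinearIndependent L b := by
    rw [Fintype.linearIndependent_iff]
    intro g hg v
    have h2 := congrArg (e U ψ v.1) hg
    rw [map_sum, map_zero, Finset.sum_eq_single v] at h2
    · rw [map_smul, e_apply hψ (hb v), if_pos rfl, smul_smul] at h2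
      rcases smul_eq_zero.1 h2 with h3 | h3
      · rcases mul_eq_zero.1 h3 with h4 | h4
        · exact h4
        · exact absurd h4 hq
      · exact absurd h3 (hb0 v)
    · intro w _ hwv
      rw [map_smul, e_apply hψ (hb w), if_neg (fun h => hwv (Subtype.ext h).symm), smul_zero]
    · intro h
      exact absurd (Finset.mem_univ _) h
  have h3 := hlin.fintype_card_le_finrank
  rwa [Fintype.card_coe] at h3

theorem eq_one_of_forall {U : (ι → F) → Module.End L V} (hU : ∀ x y, U (x + y) = U x * U y) (hU0 : U 0 = 1)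
    {ψ : AddChar F L} (hψ : ψ.IsPrimitive) (hq : (Fintype.card (ι → F) : L) ≠ 0)
    (h : ∀ v, v ≠ 0 → e U ψ v = 0) (x : ι → F) : U x = 1 := by
  have h1 : ∑ v : ι → F, e U ψ v = (Fintype.card (ι → F) : L) • (1 : Module.End L V) := by
    unfold e
    rw [Finset.sum_comm]
    have h2 : ∀ y : ι → F, ∑ v : ι → F, chi ψ v (-y) • U y =
        (if -y = 0 then (Fintype.card (ι → F) : L) else 0) • U y := by
      intro y
      rw [← Finset.sum_smul, ← sum_chi hψ]
      congr 1
      exact Finset.sum_congr rfl fun v _ => chi_comm ψ v (-y)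
    rw [Finset.sum_congr rfl fun y _ => h2 y, Finset.sum_eq_single (0 : ι → F)]
    · rw [neg_zero, if_pos rfl, hU0]
    · intro y _ hy
      rw [if_neg (neg_ne_zero.2 hy), zero_smul]
    · intro h
      exact absurd (Finset.mem_univ _) h
  rw [Finset.sum_eq_single (0 : ι → F) (fun v _ hv => h v hv) (fun h => absurd (Finset.mem_univ _) h)] at h1
  have h3 := U_mul_e U hU ψ 0 x
  rw [chi_comm, chi_zero, one_smul, h1, mul_smul_comm, mul_one] at h3
  exact smul_right_injective _ hq h3

end weights

end Cfsg.Agent.H133.AddWeights
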