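import Mathlib

/-!
# `SL₂(F) ^ n` inside `Sp_{2n}(F)`

`phi`: the homomorphism `(Fin n → SL₂(F)) →* Sp_{2n}(F)` with diagonal blocks, injective.
`exists_pair`: in `SL₂(F)`, `F` finite, there is a pair `s, w` with `w` inverting `s`, `s ^ m = 1` with `m` prime to the
characteristic, and `s ^ 2 ≠ 1`.
-/

set_option autoImplicit false

namespace Cfsg.Agent.H133.SLPower

open Matrix
open scoped MatrixGroups

variable {F : Type*} [Field F] {n : ℕ}

/-- The matrix with diagonal blocks. -/
def phiMat (A : Fin n → SL(2, F)) : Matrix (Fin n ⊕ Fin n) (Fin n ⊕ Fin n) F :=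
  fromBlocks (diagonal fun i => (A i) 0 0) (diagonal fun i => (A i) 0 1)
    (diagonal fun i => (A i) 1 0) (diagonal fun i => (A i) 1 1)

theorem phiMat_mul (A B : Fin n → SL(2, F)) : phiMat (A * B) = phiMat A * phiMat B := by
  unfold phiMat
  rw [fromBlocks_multiply]
  simp only [diagonal_mul_diagonal, diagonal_add]
  congr 1 <;>
  · congr 1
    funext i
    simp [Matrix.SpecialLinearGroup.coe_mul, Matrix.mul_apply, Fin.sum_univ_two]

theorem phiMat_one : phiMat (1 : Fin n → SL(2, F)) = 1 := by
  unfold phiMat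
  rw [← fromBlocks_one]
  congr 1 <;> simp

theorem phiMat_mem (A : Fin n → SL(2, F)) : phiMat A ∈ Matrix.symplecticGroup (Fin n) F := by
  rw [SymplecticGroup.mem_iff]
  have hdet : ∀ i, (A i) 0 0 * (A i) 1 1 - (A i) 0 1 * (A i) 1 0 = 1 := fun i => by
    have := (A i).2
    rwa [Matrix.det_fin_two] at this
  unfold phiMat Matrix.J
  rw [fromBlocks_transpose, fromBlocks_multiply, fromBlocks_multiply]
  simp only [diagonal_transpose, Matrix.mul_zero, Matrix.mul_one, zero_add, add_zero, Matrix.mul_neg,
    diagonal_mul_diagonal, Matrix.neg_mul, Matrix.diagonal_neg, diagonal_add]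
  congr 1
  · rw [← diagonal_zero]; congr 1; funext i; ring
  · rw [← diagonal_one, diagonal_neg]; congr 1; funext i; have := hdet i; show _ = -(1 : F); linear_combination -this
  · rw [← diagonal_one]; congr 1; funext i; have := hdet i; linear_combination this
  · rw [← diagonal_zero]; congr 1; funext i; ring

/-- The homomorphism `SL₂(F) ^ n → Sp_{2n}(F)`. -/
def phi : (Fin n → SL(2, F)) →* Matrix.symplecticGroup (Fin n) F where
  toFun A := ⟨phiMat A, phiMat_mem A⟩
  map_one' := Subtype.ext phiMat_one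
  map_mul' A B := Subtype.ext (phiMat_mul A B)

theorem phi_injective : Function.Injective (phi : (Fin n → SL(2, F)) →* Matrix.symplecticGroup (Fin n) F) := by
  intro A B h
  have h1 : phiMat A = phiMat B := congrArg Subtype.val h
  have h2 := fromBlocks_inj.1 h1
  funext i
  ext a b
  have e00 := congrFun (diagonal_injective h2.1) i
  have e01 := congrFun (diagonal_injective h2.2.1) i
  have e10 := congrFun (diagonal_injective h2.2.2.1) i
  have e11 := congrFun (diagonal_injective h2.2.2.2) i
  fin_cases a <;> fin_cases b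
  · exact e00
  · exact e01
  · exact e10
  · exact e11

theorem exists_sl (M : Matrix (Fin 2) (Fin 2) F) (h : M.det = 1) :
    ∃ s : SL(2, F), (s : Matrix (Fin 2) (Fin 2) F) = M := ⟨⟨M, h⟩, rfl⟩

theorem exists_pair (F : Type*) [Field F] [Finite F] :
    ∃ (s w : SL(2, F)) (m : ℕ), (m : F) ≠ 0 ∧ s ^ m = 1 ∧ s ^ 2 ≠ 1 ∧ s * w = w * s⁻¹ := by
  by_cases h2 : (2 : F) = 0
  · -- characteristic 2: order 3
    have hm1 : (-1 : F) = 1 := by linear_combination -h2
    obtain ⟨s, hs⟩ := exists_sl (!![0, 1; 1, 1] : Matrix (Fin 2) (Fin 2) F)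
      (by rw [Matrix.det_fin_two_of]; linear_combination hm1)
    obtain ⟨w, hw⟩ := exists_sl (!![0, 1; 1, 0] : Matrix (Fin 2) (Fin 2) F)
      (by rw [Matrix.det_fin_two_of]; linear_combination hm1)
    refine ⟨s, w, 3, ?_, ?_, ?_, ?_⟩
    · intro h3
      have h4 : (3 : F) = 0 := by exact_mod_cast h3
      exact one_ne_zero (α := F) (by linear_combination h4 - h2)
    · apply Matrix.SpecialLinearGroup.ext
      intro i j
      rw [Matrix.SpecialLinearGroup.coe_pow, hs, Matrix.SpecialLinearGroup.coe_one]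
      fin_cases i <;> fin_cases j <;>
        simp [pow_succ, Matrix.mul_apply, Fin.sum_univ_two] <;> linear_combination h2
    · intro h
      have h1 : ((s ^ 2 : SL(2, F)) : Matrix (Fin 2) (Fin 2) F) 0 1 = (1 : Matrix (Fin 2) (Fin 2) F) 0 1 := by
        rw [h, Matrix.SpecialLinearGroup.coe_one]
      rw [Matrix.SpecialLinearGroup.coe_pow, hs] at h1
      simp [pow_succ, Matrix.mul_apply, Fin.sum_univ_two] at h1
    · apply Matrix.SpecialLinearGroup.ext
      intro i j
      rw [Matrix.SpecialLinearGroup.coe_mul, Matrix.SpecialLinearGroup.coe_mul, Matrix.SpecialLinearGroup.coe_inv,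
        hs, hw, Matrix.adjugate_fin_two]
      fin_cases i <;> fin_cases j <;>
        simp [Matrix.mul_apply, Fin.sum_univ_two] <;> linear_combination h2
  · obtain ⟨p, hp⟩ := CharP.exists F
    have hp0 : p ≠ 0 := by
      rintro rfl
      have : CharZero F := CharP.charP_to_charZero F
      exact (Nat.card_pos (α := F)).ne' (Nat.card_eq_zero_of_infinite)
    have : NeZero p := ⟨hp0⟩
    obtain ⟨a, b, hab⟩ := CharP.sq_add_sq F p (-1)
    push_cast at hab
    obtain ⟨s, hs⟩ := exists_sl (!![0, 1; -1, 0] : Matrix (Fin 2) (Fin 2) F)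
      (by rw [Matrix.det_fin_two_of]; ring)
    obtain ⟨w, hw⟩ := exists_sl (!![(a : F), b; b, -a] : Matrix (Fin 2) (Fin 2) F)
      (by rw [Matrix.det_fin_two_of]; linear_combination -hab)
    refine ⟨s, w, 4, ?_, ?_, ?_, ?_⟩
    · intro h4
      have h5 : (4 : F) = 0 := by exact_mod_cast h4
      have h6 : (2 : F) * 2 = 0 := by linear_combination h5
      rcases mul_eq_zero.1 h6 with h | h <;> exact h2 h
    · apply Matrix.SpecialLinearGroup.ext
      intro i j
      rw [Matrix.SpecialLinearGroup.coe_pow, hs, Matrix.SpecialLinearGroup.coe_one]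
      fin_cases i <;> fin_cases j <;>
        simp [pow_succ, Matrix.mul_apply, Fin.sum_univ_two]
    · intro h
      have h1 : ((s ^ 2 : SL(2, F)) : Matrix (Fin 2) (Fin 2) F) 0 0 = (1 : Matrix (Fin 2) (Fin 2) F) 0 0 := by
        rw [h, Matrix.SpecialLinearGroup.coe_one]
      rw [Matrix.SpecialLinearGroup.coe_pow, hs] at h1
      simp [pow_succ, Matrix.mul_apply, Fin.sum_univ_two] at h1
      apply h2
      linear_combination -h1
    · apply Matrix.SpecialLinearGroup.ext
      intro i j
      rw [Matrix.SpecialLinearGroup.coe_mul, Matrix.SpecialLinearGroup.coe_mul, Matrix.SpecialLinearGroup.coe_inv,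
        hs, hw, Matrix.adjugate_fin_two]
      fin_cases i <;> fin_cases j <;>
        simp [Matrix.mul_apply, Fin.sum_univ_two]

end Cfsg.Agent.H133.SLPower
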