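import Cfsg.Agent.ChevalleyStructure.St.Conj
import Cfsg.Agent.H133.ScInj

/-!
# Conjugation formulas in the group presented by (R1), (R2)

Port of `ChevalleyStructure.St.Conj` to `D.SteinbergCover K`. `transfer`: an element of `⟨X̄_p, X̄_{-p}⟩`
(`p` fundamental) whose image in `GL` permutes the root elements by a formula `x_s(t) ↦ x_{σ s}(a t)` does the same in the
presented group.
-/

set_option autoImplicit false

namespace Cfsg.Agent.H133.ScConj

open Cfsg.Lie Cfsg.Agent.H133.ScRels Cfsg.Agent.ChevalleyStructure.St.Functional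
  Cfsg.Agent.H133.ScInj
open Cfsg.Agent.ChevalleyStructure.St.Conj (CommGen lin lin_def lin_comb lin_neg Tab)

universe u

variable {K : Type u} [Field K] {D : ChevalleyDatum}

/-- The subgroup `⟨X̄_p, X̄_{-p}⟩`. -/
def PP (D : ChevalleyDatum) (K : Type u) [Field K] (p : ℕ) : Subgroup (D.SteinbergCover K) :=
  Subgroup.closure {x | ∃ t : K, x = D.scGen K p t ∨ x = D.scGen K (D.neg p) t}

theorem scGen_mem_PP (p : ℕ) (t : K) : D.scGen K p t ∈ PP D K p := Subgroup.subset_closure ⟨t, Or.inl rfl⟩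

theorem scGen_neg_mem_PP (p : ℕ) (t : K) : D.scGen K (D.neg p) t ∈ PP D K p :=
  Subgroup.subset_closure ⟨t, Or.inr rfl⟩

/-- If `f r = 0`, conjugation by `x̄_r(t)` maps `Uf f` into itself. -/
theorem conj_mem_of_zero (hw : Wf D) {f : ℕ → ℤ} (hf : Fun D f) {r : ℕ} (hr : r < D.nroots) (hfr : f r = 0)
    (t : K) {g : D.SteinbergCover K} (hg : g ∈ Uf D K f) :
    (D.scGen K r t)⁻¹ * g * D.scGen K r t ∈ Uf D K f := by
  unfold Uf at hg
  induction hg using Subgroup.closure_induction with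
  | one => rw [mul_one, inv_mul_cancel]; exact one_mem _
  | mem x hx =>
    obtain ⟨s, u, hs, hfs, rfl⟩ := hx
    have hsr : s ≠ r := by rintro rfl; omega
    have hsn : s ≠ D.neg r := by
      rintro rfl
      rw [hf.neg r hr] at hfs
      omega
    rw [scGen_conj hr hs hsr hsn]
    refine mul_mem (scGen_mem_Uf hs hfs u) (word_mem _ ?_)
    intro p hp
    obtain ⟨c, hc, rfl⟩ := List.mem_map.1 hp
    obtain ⟨h1, h2, h3, h4⟩ := commTerms_spec hw hr hs hc
    refine scGen_mem_Uf h1 ?_ _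
    show 0 < f c.1
    rw [h4 f hf, hfr, mul_zero, zero_add]
    exact mul_pos (by exact_mod_cast h3) hfs
  | mul x y _ _ ihx ihy =>
    have : (D.scGen K r t)⁻¹ * (x * y) * D.scGen K r t =
        ((D.scGen K r t)⁻¹ * x * D.scGen K r t) * ((D.scGen K r t)⁻¹ * y * D.scGen K r t) := by group
    rw [this]; exact mul_mem ihx ihy
  | inv x _ ih =>
    have : (D.scGen K r t)⁻¹ * x⁻¹ * D.scGen K r t = ((D.scGen K r t)⁻¹ * x * D.scGen K r t)⁻¹ := by group
    rw [this]; exact inv_mem ih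

/-- If `f p = 0`, the elements of `⟨X̄_p, X̄_{-p}⟩` normalise `Uf f`. -/
theorem PP_conj_mem (hw : Wf D) {f : ℕ → ℤ} (hf : Fun D f) {p : ℕ} (hp : p < D.nroots) (hfp : f p = 0)
    {h : D.SteinbergCover K} (hh : h ∈ PP D K p) {g : D.SteinbergCover K} (hg : g ∈ Uf D K f) :
    h * g * h⁻¹ ∈ Uf D K f := by
  have hgen : ∀ r, (r = p ∨ r = D.neg p) → ∀ t : K, ∀ g ∈ Uf D K f,
      (D.scGen K r t) * g * (D.scGen K r t)⁻¹ ∈ Uf D K f := by
    intro r hr t g hg
    have hr' : r < D.nroots ∧ f r = 0 := by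
      rcases hr with rfl | rfl
      · exact ⟨hp, hfp⟩
      · exact ⟨hw.neg_lt p hp, by rw [hf.neg p hp, hfp, neg_zero]⟩
    have := conj_mem_of_zero hw hf hr'.1 hr'.2 (-t) hg
    rwa [scGen_inv, neg_neg, ← scGen_inv] at this
  unfold PP at hh
  induction hh using Subgroup.closure_induction_left generalizing g with
  | one => simpa using hg
  | mul_left x hx y _ ih =>
    obtain ⟨t, ht⟩ := hx
    have e : x * y * g * (x * y)⁻¹ = x * (y * g * y⁻¹) * x⁻¹ := by group
    rw [e]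
    rcases ht with rfl | rfl
    · exact hgen p (Or.inl rfl) t _ (ih hg)
    · exact hgen (D.neg p) (Or.inr rfl) t _ (ih hg)
  | inv_mul_cancel x hx y _ ih =>
    obtain ⟨t, ht⟩ := hx
    have e : x⁻¹ * y * g * (x⁻¹ * y)⁻¹ = x⁻¹ * (y * g * y⁻¹) * (x⁻¹)⁻¹ := by group
    rw [e]
    rcases ht with rfl | rfl
    · rw [scGen_inv]
      exact hgen p (Or.inl rfl) (-t) _ (ih hg)
    · rw [scGen_inv]
      exact hgen (D.neg p) (Or.inr rfl) (-t) _ (ih hg)

/-- Under `CommGen`, `x̄_q(t)` lies in the group generated by the `x̄_s(u)`, `s ≠ ±p`, `f s > 0`. -/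
theorem mem_of_commGen (hw : Wf D) {f : ℕ → ℤ} (hf : Fun D f) {p q : ℕ} (hp : p < D.nroots)
    (hq : q = p ∨ q = D.neg p) (hfq : 0 < f q)
    (h : CommGen D f p q) (t : K) :
    D.scGen K q t ∈ Subgroup.closure {x | ∃ (s : ℕ) (u : K), s < D.nroots ∧ s ≠ p ∧ s ≠ D.neg p ∧ 0 < f s ∧
      x = D.scGen K s u} := by
  obtain ⟨r, s, hr, hs, hrp, hrn, hsp, hsn, hsr, hsnr, hfr, hfs, A, B, C, j, hT, hC, hAB⟩ := h
  have hmem : ∀ a u, a < D.nroots → a ≠ p → a ≠ D.neg p → 0 < f a → D.scGen K a u ∈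
      Subgroup.closure {x | ∃ (s : ℕ) (u : K), s < D.nroots ∧ s ≠ p ∧ s ≠ D.neg p ∧ 0 < f s ∧
      x = D.scGen K s u} := fun a u h1 h2 h3 h4 => Subgroup.subset_closure ⟨a, u, h1, h2, h3, h4, rfl⟩
  set H := Subgroup.closure {x | ∃ (s : ℕ) (u : K), s < D.nroots ∧ s ≠ p ∧ s ≠ D.neg p ∧ 0 < f s ∧
      x = D.scGen K s u} with hH
  have hCC : (C : K) * C = 1 := by rcases hC with rfl | rfl <;> simp
  have hcomm := scGen_comm hr hs hsr hsnr (-((C : K) * t)) (1 : K)
  have hword : word D K (D.commWord K r s (-((C : K) * t)) 1) =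
      word D K (A.map fun c => (c.1, (c.2.1 : K) * (-(-((C : K) * t))) ^ c.2.2.1 * 1 ^ c.2.2.2)) *
        D.scGen K q t *
      word D K (B.map fun c => (c.1, (c.2.1 : K) * (-(-((C : K) * t))) ^ c.2.2.1 * 1 ^ c.2.2.2)) := by
    show word D K ((D.commTerms r s).map fun c => (c.1, (c.2.1 : K) * (-(-((C : K) * t))) ^ c.2.2.1 * 1 ^ c.2.2.2)) = _
    rw [hT, List.map_append, List.map_cons, word_append, word_cons, ← mul_assoc]
    congr 2
    show D.scGen K q ((C : K) * (-(-((C : K) * t))) ^ 1 * 1 ^ j) = _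
    rw [neg_neg, pow_one, one_pow, mul_one, ← mul_assoc, hCC, one_mul]
  have hpart : ∀ L : List (ℕ × ℤ × ℕ × ℕ), (∀ c ∈ L, c ∈ D.commTerms r s ∧ c.1 ≠ q) →
      word D K (L.map fun c => (c.1, (c.2.1 : K) * (-(-((C : K) * t))) ^ c.2.2.1 * 1 ^ c.2.2.2)) ∈ H := by
    intro L hL
    refine word_mem _ ?_
    intro x hx
    obtain ⟨c, hc, rfl⟩ := List.mem_map.1 hx
    obtain ⟨hcT, hcq⟩ := hL c hc
    obtain ⟨h1, h2, h3, h4⟩ := commTerms_spec hw hr hs hcT
    have hfc : 0 < f c.1 := by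
      rw [h4 f hf]
      have e1 : 0 < (c.2.2.1 : ℤ) * f r := mul_pos (by exact_mod_cast h2) hfr
      have e2 : 0 < (c.2.2.2 : ℤ) * f s := mul_pos (by exact_mod_cast h3) hfs
      omega
    have hcp : c.1 ≠ p ∧ c.1 ≠ D.neg p := by
      rcases hq with rfl | rfl
      · refine ⟨hcq, fun h => ?_⟩
        rw [h, hf.neg _ hp] at hfc
        omega
      · refine ⟨fun h => ?_, hcq⟩
        rw [h] at hfc
        rw [hf.neg _ hp] at hfq
        omega
    exact hmem _ _ h1 hcp.1 hcp.2 hfc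
  have hA := hpart A fun c hc => ⟨by rw [hT]; exact List.mem_append_left _ hc, hAB c (List.mem_append_left _ hc)⟩
  have hB := hpart B fun c hc => ⟨by rw [hT]; exact List.mem_append_right _ (List.mem_cons_of_mem _ hc),
    hAB c (List.mem_append_right _ hc)⟩
  rw [hword] at hcomm
  have hfin : D.scGen K q t =
      (word D K (A.map fun c => (c.1, (c.2.1 : K) * (-(-((C : K) * t))) ^ c.2.2.1 * 1 ^ c.2.2.2)))⁻¹ *
      ((D.scGen K s 1)⁻¹ * (D.scGen K r (-((C : K) * t)))⁻¹ * D.scGen K s 1 * D.scGen K r (-((C : K) * t))) *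
      (word D K (B.map fun c => (c.1, (c.2.1 : K) * (-(-((C : K) * t))) ^ c.2.2.1 * 1 ^ c.2.2.2)))⁻¹ := by
    rw [hcomm]; group
  rw [hfin]
  have m1 : D.scGen K s (1 : K) ∈ H := hmem _ _ hs hsp hsn hfs
  have m2 : D.scGen K r (-((C : K) * t)) ∈ H := hmem _ _ hr hrp hrn hfr
  exact mul_mem (mul_mem (inv_mem hA) (mul_mem (mul_mem (mul_mem (inv_mem m1) (inv_mem m2)) m1) m2)) (inv_mem hB)

section theta

variable (θ : D.SteinbergCover K →* GL D.Idx K)
  (hθ : ∀ (r : ℕ) (t : K), r < D.nroots → ((θ (D.scGen K r t) : GL D.Idx K) : Matrix D.Idx D.Idx K) = D.x K r t)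

include hθ

/-- The transfer principle. -/
theorem transfer {m0 : ℕ → ℤ} (T : Tab D m0) {i : ℕ} (hi : i < D.rank) {g : D.SteinbergCover K}
    (hg : g ∈ PP D K (D.simple i)) (σ : ℕ → ℕ)
    (hσ1 : ∀ s < D.nroots, σ s < D.nroots)
    (hσ2 : ∀ m, ∃ m', ∀ s < D.nroots, lin D m' (σ s) = lin D m s)
    (hσ3 : ∀ m, lin D m (D.simple i) = 0 → ∀ s < D.nroots, lin D m (σ s) = lin D m s)
    (hG : ∀ s < D.nroots, ∃ a : K, ∀ t, θ g * θ (D.scGen K s t) = θ (D.scGen K (σ s) (a * t)) * θ g)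
    {s : ℕ} (hs : s < D.nroots) {a : K}
    (ha : ∀ t, θ g * θ (D.scGen K s t) = θ (D.scGen K (σ s) (a * t)) * θ g) (t : K) :
    g * D.scGen K s t = D.scGen K (σ s) (a * t) * g := by
  have hw := T.toWf
  have hp := T.simple_lt i hi
  have hco : ∀ r < D.nroots, ∃ i : Fin D.rank, (((D.coroot.getD r #[]).getD i.val 0 : ℤ) : K) ≠ 0 :=
    fun r hr => T.coroot_ne hr
  -- the functional vanishing on p
  set mi : ℕ → ℤ := fun j => 2 * m0 j + if j = i then (- lin D m0 (D.simple i)) else 0 with hmi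
  have hmi' : ∀ r, lin D mi r = 2 * lin D m0 r + (- lin D m0 (D.simple i)) * D.cartan i r :=
    fun r => lin_comb D m0 2 _ hi r
  have hfip : lin D mi (D.simple i) = 0 := by
    rw [hmi', T.cartan_simple i hi]; ring
  have hfipos : ∀ s < D.nroots, 0 < lin D m0 s → s ≠ D.simple i → 0 < lin D mi s := by
    intro s hs h1 h2
    have h3 := T.refl_pos i hi s hs h1 h2
    rw [T.refl_lin hi hs] at h3
    rw [hmi']
    nlinarith
  have hfine : ∀ s < D.nroots, s ≠ D.simple i → s ≠ D.neg (D.simple i) → lin D mi s ≠ 0 := by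
    intro s hs h1 h2 h0
    rcases lt_or_gt_of_ne (T.ne_zero s hs) with h | h
    · have hns := hw.neg_lt s hs
      have := hfipos (D.neg s) hns (by rw [(T.fun_lin m0).neg s hs]; omega)
        (by intro h3; apply h2; rw [← h3, hw.neg_neg s hs])
      rw [(T.fun_lin mi).neg s hs] at this
      omega
    · have := hfipos s hs h h1
      omega
  -- conjugation formula for s ≠ ±p
  have key : ∀ s < D.nroots, s ≠ D.simple i → s ≠ D.neg (D.simple i) → ∀ a : K,
      (∀ t, θ g * θ (D.scGen K s t) = θ (D.scGen K (σ s) (a * t)) * θ g) →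
      ∀ t, g * D.scGen K s t = D.scGen K (σ s) (a * t) * g := by
    intro s hs h1 h2 a ha t
    have hcommon : ∀ m, lin D m (D.simple i) = 0 → 0 < lin D m s →
        g * D.scGen K s t = D.scGen K (σ s) (a * t) * g := by
      intro m hfp hfs
      have e1 : g * D.scGen K s t * g⁻¹ ∈ Uf D K (lin D m) :=
        PP_conj_mem hw (T.fun_lin m) hp hfp hg (scGen_mem_Uf hs hfs t)
      have e2 : D.scGen K (σ s) (a * t) ∈ Uf D K (lin D m) :=
        scGen_mem_Uf (hσ1 s hs) (by rw [hσ3 m hfp s hs]; exact hfs) _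
      have e3 : g * D.scGen K s t * g⁻¹ = D.scGen K (σ s) (a * t) := by
        refine theta_inj' θ hθ hw hco (T.fun_lin m) e1 e2 ?_
        rw [map_mul, map_mul, map_inv, ha t, mul_inv_cancel_right]
      rw [← e3, inv_mul_cancel_right]
    rcases lt_or_gt_of_ne (hfine s hs h1 h2) with h | h
    · refine hcommon (fun j => - mi j) ?_ ?_
      · rw [lin_neg, hfip, neg_zero]
      · rw [lin_neg]; omega
    · exact hcommon mi hfip h
  by_cases h1 : s = D.simple i ∨ s = D.neg (D.simple i)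
  · obtain ⟨m, hfs, hgen⟩ := T.comm_gen i hi s h1
    obtain ⟨m', hmm'⟩ := hσ2 m
    have hmem := mem_of_commGen hw (T.fun_lin m) hp h1 hfs hgen t
    have hconj : ∀ x ∈ Subgroup.closure {x | ∃ (s : ℕ) (u : K), s < D.nroots ∧ s ≠ D.simple i ∧
        s ≠ D.neg (D.simple i) ∧ 0 < lin D m s ∧ x = D.scGen K s u}, g * x * g⁻¹ ∈ Uf D K (lin D m') := by
      intro x hx
      induction hx using Subgroup.closure_induction with
      | one => rw [mul_one, mul_inv_cancel]; exact one_mem _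
      | mem x hx =>
        obtain ⟨s', u, hs', h1', h2', hfs', rfl⟩ := hx
        obtain ⟨a', ha'⟩ := hG s' hs'
        rw [key s' hs' h1' h2' a' ha' u, mul_inv_cancel_right]
        exact scGen_mem_Uf (hσ1 s' hs') (by rw [hmm' s' hs']; exact hfs') _
      | mul x y _ _ ihx ihy =>
        have : g * (x * y) * g⁻¹ = (g * x * g⁻¹) * (g * y * g⁻¹) := by group
        rw [this]; exact mul_mem ihx ihy
      | inv x _ ih =>
        have : g * x⁻¹ * g⁻¹ = (g * x * g⁻¹)⁻¹ := by group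
        rw [this]; exact inv_mem ih
    have e1 := hconj _ hmem
    have e2 : D.scGen K (σ s) (a * t) ∈ Uf D K (lin D m') :=
      scGen_mem_Uf (hσ1 s hs) (by rw [hmm' s hs]; exact hfs) _
    have e3 : g * D.scGen K s t * g⁻¹ = D.scGen K (σ s) (a * t) := by
      refine theta_inj' θ hθ hw hco (T.fun_lin m') e1 e2 ?_
      rw [map_mul, map_mul, map_inv, ha t, mul_inv_cancel_right]
    rw [← e3, inv_mul_cancel_right]
  · push Not at h1
    exact key s hs h1.1 h1.2 a ha t

/-- The matrix of the image of a word. -/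
theorem theta_word (w : List (ℕ × K)) (hw : ∀ p ∈ w, p.1 < D.nroots) :
    ((θ (word D K w) : GL D.Idx K) : Matrix D.Idx D.Idx K) = D.wordMat K w := by
  induction w with
  | nil => rw [word_nil, map_one, Units.val_one]; rfl
  | cons p w ih =>
    rw [word_cons, map_mul, Units.val_mul, hθ p.1 p.2 (hw p List.mem_cons_self),
      ih fun q hq => hw q (List.mem_cons_of_mem _ hq)]
    show _ = (List.map _ (p :: w)).prod
    rw [List.map_cons, List.prod_cons]; rfl

theorem theta_stN (hw : Wf D) {r : ℕ} (hr : r < D.nroots) (t : K) :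
    ((θ (mk D K (D.stN r t)) : GL D.Idx K) : Matrix D.Idx D.Idx K) = D.nMat K r t := by
  show ((θ (mk D K (D.stWord (D.nWord r t))) : GL D.Idx K) : Matrix D.Idx D.Idx K) = D.wordMat K (D.nWord r t)
  rw [mk_stWord, theta_word θ hθ]
  intro p hp
  have hp' : p ∈ [(r, t), (D.neg r, -t⁻¹), (r, t)] := hp
  simp only [List.mem_cons, List.not_mem_nil, or_false] at hp'
  rcases hp' with rfl | rfl | rfl
  · exact hr
  · exact hw.neg_lt r hr
  · exact hr

theorem theta_stH (hw : Wf D) {r : ℕ} (hr : r < D.nroots) (t : K) :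
    ((θ (mk D K (D.stH r t)) : GL D.Idx K) : Matrix D.Idx D.Idx K) = D.hMat K r t := by
  show ((θ (mk D K (D.stWord (D.hWord r t))) : GL D.Idx K) : Matrix D.Idx D.Idx K) = D.wordMat K (D.hWord r t)
  rw [mk_stWord, theta_word θ hθ]
  intro p hp
  have hp' : p ∈ [(r, t), (D.neg r, -t⁻¹), (r, t)] ++ [(r, -1), (D.neg r, -(-1)⁻¹), (r, -1)] := hp
  simp only [List.cons_append, List.nil_append, List.mem_cons, List.not_mem_nil, or_false] at hp'
  rcases hp' with rfl | rfl | rfl | rfl | rfl | rfl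
  · exact hr
  · exact hw.neg_lt r hr
  · exact hr
  · exact hr
  · exact hw.neg_lt r hr
  · exact hr

end theta

end Cfsg.Agent.H133.ScConj
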